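import Groth.Agent.Inertia49.Finite
import Groth.Agent.WNA49.Basic
import Groth.Agent.AlgStLib.Descent
import Groth.Agent.AlgStLib.RedSubstack
import Groth.Agent.AlgStLib.UnivPts
import Groth.Agent.FibBase.Inertia
import Groth.Agent.S10279
import Groth.Prelude.Def_StGerb2

/-!
# Finite inertia from étale covers preserving stabilisers
-/

set_option autoImplicit false
set_option backward.isDefEq.respectTransparency false
set_option backward.isDefEq.respectTransparency.types false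

universe u

open CategoryTheory CategoryTheory.Functor CategoryTheory.Limits AlgebraicGeometry Opposite AlgSp
open Groth.Agent.FibBase Groth.Agent.AlgSpLib Groth.Agent.AlgStLib

namespace Groth.Agent.Inertia49

variable {S : Scheme.{u}} {𝒳 𝒴 : AlgSt.Cat S}

/-- The map of inertia categories induced by a functor over the base. -/
def inertiaMap (h : 𝒳 ⥤ᵇ 𝒴) : FibCat.inertia (FibCat.toSelf 𝒳) ⥤ᵇ FibCat.inertia (FibCat.toSelf 𝒴) where
  toFunctor :=
    { obj := fun z => ⟨h.obj z.pt, h.toFunctor.mapIso z.aut, by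
        show 𝒴.p.map (h.map z.aut.hom) = 𝟙 (𝒴.p.obj (h.obj z.pt))
        have e := Functor.congr_hom h.w z.aut.hom
        have hz : 𝒳.p.map z.aut.hom = 𝟙 (𝒳.p.obj z.pt) := z.map_aut
        have e' : 𝒴.p.map (h.map z.aut.hom) = eqToHom (h.w_obj z.pt) ≫ 𝒳.p.map z.aut.hom ≫ eqToHom (h.w_obj z.pt).symm := e
        rw [e', hz]
        simp⟩
      map := fun φ => ⟨h.map φ.hom, by
        show h.map _ ≫ h.map _ = h.map _ ≫ h.map _
        rw [← h.toFunctor.map_comp, ← h.toFunctor.map_comp, φ.comm]⟩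
      map_id := fun z => FibCat.InertiaObj.hom_ext (h.toFunctor.map_id _)
      map_comp := fun φ ψ => FibCat.InertiaObj.hom_ext (h.toFunctor.map_comp _ _) }
  w := congrArg (fun G => FibCat.InertiaObj.forget ⋙ G) h.w

section Fibre

variable {𝒰 : AlgSt.Cat S} (h : 𝒰 ⥤ᵇ 𝒳) {U : Over S} (y : FibCat.overCat U ⥤ᵇ 𝒰)

/-- The comparison of base changes of the inertia. -/
def inertiaComparison : FibCat.fp y (FibCat.inertiaToBase (FibCat.toSelf 𝒰)) ⥤ᵇ
    FibCat.fp (BasedFunctor.comp y h) (FibCat.inertiaToBase (FibCat.toSelf 𝒳)) :=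
  fpMap (F := BasedFunctor.comp y h) (G := FibCat.inertiaToBase (FibCat.toSelf 𝒳)) (F' := y)
    (G' := FibCat.inertiaToBase (FibCat.toSelf 𝒰)) (a := BasedFunctor.id _) (b := inertiaMap h) (c := h)
    (Iso.refl _) (Iso.refl _)

/-- Surjective stabiliser maps at geometric points make the comparison surjective on points. -/
theorem surjective_pts_inertiaComparison (h𝒳 : FibCat.IsFibGrpd 𝒳.p)
    (haut : ∀ (Ω : Type u) [Field Ω] [IsAlgClosed Ω] (t : Spec (CommRingCat.of Ω) ⟶ S) (u : 𝒰.p.Fiber (Over.mk t)),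
      Function.Surjective (Gerb.autMap h u.1)) :
    Function.Surjective (AlgSt.Points.map (inertiaComparison h y)) := by
  intro w
  obtain ⟨p, rfl⟩ := AlgSt.Points.mk_surjective w
  let str : Spec (CommRingCat.of (AlgebraicClosure p.K)) ⟶ S :=
    Spec.map (CommRingCat.ofHom (algebraMap p.K (AlgebraicClosure p.K))) ≫ p.str
  let g : Over.mk str ⟶ Over.mk p.str :=
    Over.homMk (Spec.map (CommRingCat.ofHom (algebraMap p.K (AlgebraicClosure p.K)))) rfl
  obtain ⟨r, φ, hr, -⟩ := exists_pullback_fpt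
    (fp_isFibGrpd (F := BasedFunctor.comp y h) (G := FibCat.inertiaToBase (FibCat.toSelf 𝒳))
      (isFibGrpd_overCat U) (inertia_isFibGrpd h𝒳 isFibGrpd_selfOver) h𝒳) p g
  let η := r.obj
  let t : Over U := η.obj.fst
  let z := η.obj.snd
  let j : h.obj (y.obj t) ≅ z.pt := η.obj.iso
  have ht : t.left = Over.mk str := hr
  have hy : 𝒰.p.obj (y.obj t) = Over.mk str := (y.w_obj t).trans ht
  have hj : 𝒳.p.IsHomLift (𝟙 (Over.mk str)) j.hom := by
    rw [← ht]; exact η.property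
  have hz : 𝒳.p.obj z.pt = Over.mk str := IsHomLift.codomain_eq 𝒳.p (𝟙 (Over.mk str)) j.hom
  have hza : 𝒳.p.IsHomLift (𝟙 (Over.mk str)) z.aut.hom := by
    refine IsHomLift.of_fac 𝒳.p _ _ hz hz ?_
    have hm : 𝒳.p.map z.aut.hom = 𝟙 (𝒳.p.obj z.pt) := z.map_aut
    rw [hm]; simp
  let α : h.obj (y.obj t) ≅ h.obj (y.obj t) := j ≪≫ z.aut ≪≫ j.symm
  have hx : 𝒳.p.obj (h.obj (y.obj t)) = Over.mk str := (h.w_obj _).trans hy
  have hjinv : 𝒳.p.IsHomLift (𝟙 (Over.mk str)) j.inv := IsHomLift.lift_id_inv 𝒳.p _ j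
  have hα : 𝒳.p.IsHomLift (𝟙 (Over.mk str)) α.hom := by
    show 𝒳.p.IsHomLift _ (j.hom ≫ z.aut.hom ≫ j.inv)
    infer_instance
  have hαi : 𝒳.p.IsHomLift (𝟙 (Over.mk str)) α.inv := IsHomLift.lift_id_inv 𝒳.p _ α
  have hα' : 𝒳.p.IsHomLift (𝟙 (𝒳.p.obj (h.obj (y.obj t)))) α.hom := by rw [hx]; exact hα
  have hαi' : 𝒳.p.IsHomLift (𝟙 (𝒳.p.obj (h.obj (y.obj t)))) α.inv := by rw [hx]; exact hαi
  let A : Gerb.AutO (h.obj (y.obj t)) :=
    { hom := ⟨α.hom, hα'⟩
      inv := ⟨α.inv, hαi'⟩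
      hom_inv_id := Functor.Fiber.hom_ext α.hom_inv_id
      inv_hom_id := Functor.Fiber.hom_ext α.inv_hom_id }
  obtain ⟨γ, hγ⟩ := haut (AlgebraicClosure p.K) str ⟨y.obj t, hy⟩ A
  let a : y.obj t ≅ y.obj t :=
    ⟨γ.hom.1, γ.inv.1, congrArg Subtype.val γ.hom_inv_id, congrArg Subtype.val γ.inv_hom_id⟩
  let zU : FibCat.InertiaObj (FibCat.toSelf 𝒰) := ⟨y.obj t, a, by
    show 𝒰.p.map γ.hom.1 = 𝟙 _
    have := γ.hom.2
    simpa using IsHomLift.fac' 𝒰.p (𝟙 (𝒰.p.obj (y.obj t))) γ.hom.1⟩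
  have hga : h.map γ.hom.1 = α.hom := congrArg (fun k : Gerb.AutO (h.obj (y.obj t)) => k.hom.1) hγ
  let o : (FibCat.fp y (FibCat.inertiaToBase (FibCat.toSelf 𝒰))).obj := ⟨⟨t, zU, Iso.refl _⟩, by
    show 𝒰.p.IsHomLift (𝟙 t.left) (𝟙 (y.obj t))
    exact IsHomLift.id (y.w_obj t)⟩
  let f₂ : (inertiaMap h).obj zU ⟶ z := ⟨j.hom, by
    show h.map γ.hom.1 ≫ j.hom = j.hom ≫ z.aut.hom
    rw [hga]
    show (j.hom ≫ z.aut.hom ≫ j.inv) ≫ j.hom = _
    simp⟩
  let ψ : (inertiaComparison h y).obj o ⟶ η := ObjectProperty.homMk ⟨𝟙 t, f₂, by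
    show h.map (y.map (𝟙 t)) ≫ j.hom = (𝟙 _ ≫ h.map (𝟙 (y.obj t)) ≫ 𝟙 _) ≫ j.hom
    rw [y.toFunctor.map_id, h.toFunctor.map_id, Category.id_comp, Category.id_comp]
    exact (Category.id_comp j.hom).symm.trans (congrArg (· ≫ j.hom) (Category.id_comp (𝟙 (h.obj (y.obj t)))).symm)⟩
  refine ⟨AlgSt.Points.mk { K := AlgebraicClosure p.K, str := str, obj := o, lies := ht }, ?_⟩
  exact pts_eq_of_hom
    (p := ({ K := AlgebraicClosure p.K, str := str, obj := o, lies := ht } :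
      AlgSt.FPt (FibCat.fp y (FibCat.inertiaToBase (FibCat.toSelf 𝒰)))).map (inertiaComparison h y))
    (q := p) (ψ ≫ φ)

/-- The base change of the inertia along a separated chart preserving stabilisers is finite. -/
theorem repOver_finite (h𝒳 : FibCat.IsFibGrpd 𝒳.p) (hsep : AlgSt.IsSeparatedOver 𝒰)
    (hΔ : AlgSt.RepByAlgSpWith (IsSeparatedMor ⊓ IsQuasiCompactMor) (FibCat.diag (FibCat.toSelf 𝒳)))
    (hqf : AlgSt.IsQuasiDMOver 𝒳)
    (haut : ∀ (Ω : Type u) [Field Ω] [IsAlgClosed Ω] (t : Spec (CommRingCat.of Ω) ⟶ S) (u : 𝒰.p.Fiber (Over.mk t)),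
      Function.Surjective (Gerb.autMap h u.1)) :
    RepOver IsFiniteMor (FibCat.fpFst (BasedFunctor.comp y h) (FibCat.inertiaToBase (FibCat.toSelf 𝒳))) := by
  obtain ⟨F, e, he, hq⟩ := repByAlgSpWith_inertiaToBase _ hqf U (BasedFunctor.comp y h)
  have hsq := (RepOver.property_of_stableBC (stableBC_inf stableBC_isSeparatedMor stableBC_isQuasiCompactMor)
    (repByAlgSpWith_inertiaToBase _ hΔ U (BasedFunctor.comp y h)) e he).2
  obtain ⟨G, e', he', hG⟩ := repByAlgSpWith_inertiaToBase _ hsep U y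
  obtain ⟨g, hg, -, ⟨j⟩⟩ := isEquivOver_inv he
  let c := inertiaComparison h y
  let Φ : AlgSt.ofSp G.obj ⥤ᵇ AlgSt.ofSp F.obj := BasedFunctor.comp (BasedFunctor.comp e' c) g
  let q := FibCat.fpFst (BasedFunctor.comp y h) (FibCat.inertiaToBase (FibCat.toSelf 𝒳))
  let q' := FibCat.fpFst y (FibCat.inertiaToBase (FibCat.toSelf 𝒰))
  have hw : spHom Φ ≫ AlgSt.spMapOfOver (BasedFunctor.comp e q) = AlgSt.spMapOfOver (BasedFunctor.comp e' q') := by
    rw [← spMapOfOver_comp]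
    exact spMapOfOver_congr (whiskerLeftIso (BasedFunctor.comp e' c) (whiskerRightIso j q))
  have hs : IsSurjectiveMor (spHom Φ) := fun z => by
    obtain ⟨x, rfl⟩ := spPt_bijective.2 z
    obtain ⟨x₁, rfl⟩ := (pts_bijective_of_isEquivOver hg).2 x
    obtain ⟨x₂, rfl⟩ := surjective_pts_inertiaComparison h y h𝒳 haut x₁
    obtain ⟨x₃, rfl⟩ := (pts_bijective_of_isEquivOver he').2 x₂
    refine ⟨spPt x₃, ?_⟩
    rw [← spPt_map_ofSpMap, ← pts_map_congr (isoOfSpMap Φ), pts_map_comp, pts_map_comp]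
  let B : AlgSp.Space S := ⟨(yon S).obj U, IsAlgSpace.yon_obj U⟩
  have huc : IsUnivClosedMor (AlgSt.spMapOfOver (BasedFunctor.comp e q)) :=
    S10279.result (X := G) (Y := F) (B := B) (ObjectProperty.homMk (spHom Φ))
      (ObjectProperty.homMk (AlgSt.spMapOfOver (BasedFunctor.comp e' q')))
      (ObjectProperty.homMk (AlgSt.spMapOfOver (BasedFunctor.comp e q))) (ObjectProperty.hom_ext _ hw) hG.2.2 hs
  exact ⟨F, e, he, AlgSpDM.isFiniteMor_of_proper_lqf (X := F) (Y := B)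
    (ObjectProperty.homMk (AlgSt.spMapOfOver (BasedFunctor.comp e q)))
    ⟨hsq.1, ⟨locP_mono (P := @LocallyQuasiFinite ⊓ @LocallyOfFiniteType) inf_le_right hq, hsq.2⟩, huc⟩ hq⟩

end Fibre

/-- Finite inertia is local for étale charts preserving stabilisers. -/
theorem inertia_finite_of_etale_local (h𝒳 : AlgSt.IsAlgStack Scheme.fppfPrecoverage 𝒳)
    (hΔ : AlgSt.RepByAlgSpWith (IsSeparatedMor ⊓ IsQuasiCompactMor) (FibCat.diag (FibCat.toSelf 𝒳)))
    (hqf : AlgSt.IsQuasiDMOver 𝒳)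
    (hloc : ∀ x : AlgSt.Points 𝒳, ∃ (𝒰 : AlgSt.Cat S) (h : 𝒰 ⥤ᵇ 𝒳),
      FibCat.IsFibGrpd 𝒰.p ∧ x ∈ Set.range (AlgSt.Points.map h) ∧
      AlgSt.RepByAlgSpWith IsEtaleMor h ∧ AlgSt.IsSeparatedOver 𝒰 ∧
      ∀ (Ω : Type u) [Field Ω] [IsAlgClosed Ω] (t : Spec (CommRingCat.of Ω) ⟶ S) (u : 𝒰.p.Fiber (Over.mk t)),
        Function.Surjective (Gerb.autMap h u.1)) :
    AlgSt.RepByAlgSpWith IsFiniteMor (FibCat.inertiaToBase (FibCat.toSelf 𝒳)) := by
  let ι := FibCat.inertiaToBase (FibCat.toSelf 𝒳)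
  intro U y
  obtain ⟨F, e, he, -⟩ := repByAlgSpWith_inertiaToBase _ hqf U y
  refine ⟨F, e, he, ?_⟩
  have hch : ∀ s : ↥U.left, ∃ (V : Over S) (v : V ⟶ U) (𝒰 : AlgSt.Cat S) (h : 𝒰 ⥤ᵇ 𝒳)
      (z : FibCat.overCat V ⥤ᵇ 𝒰), Nonempty (BasedFunctor.comp z h ≅ BasedFunctor.comp (AlgSt.overMap v) y) ∧
      Etale v.left ∧ s ∈ Set.range v.left ∧ AlgSt.IsSeparatedOver 𝒰 ∧
      ∀ (Ω : Type u) [Field Ω] [IsAlgClosed Ω] (t : Spec (CommRingCat.of Ω) ⟶ S) (u : 𝒰.p.Fiber (Over.mk t)),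
        Function.Surjective (Gerb.autMap h u.1) := by
    intro s
    obtain ⟨𝒰, h, h𝒰, ⟨a, ha⟩, het, hsep, haut⟩ := hloc (AlgSt.Points.map y (ptAt U s))
    obtain ⟨w, hw, -⟩ := exists_pts_fp h𝒰 h𝒳.isStack.1 (isFibGrpd_overCat U) h y (ptAt U s) a ha.symm
    obtain ⟨G, e', he', hG⟩ := het U y
    obtain ⟨T, p, hp, hp'⟩ := G.property.atlas
    obtain ⟨v, hv⟩ := (yon S).map_surjective (p ≫ AlgSt.spMapOfOver (BasedFunctor.comp e' (FibCat.fpFst y h)))
    let E : FibCat.overCat T ⥤ᵇ FibCat.fp y h := BasedFunctor.comp (overOfMap p) e'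
    obtain ⟨i⟩ := RedSub.overOfMap_comp_iso p (BasedFunctor.comp e' (FibCat.fpFst y h)) v hv
    refine ⟨T, v, 𝒰, h, BasedFunctor.comp E (FibCat.fpSnd y h),
      ⟨(whiskerLeftIso E (FibCat.fpIso y h)).symm ≪≫ whiskerRightIso i y⟩, ?_, ?_, hsep, haut⟩
    · apply locP_yon_map (P := @Etale)
      rw [hv]
      exact locP_of_repWith (hG p hp)
    · obtain ⟨b, rfl⟩ := (pts_bijective_of_isEquivOver he').2 w
      obtain ⟨b', hb'⟩ := surjective_map_of_repWith hp' (spPt b)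
      obtain ⟨s', rfl⟩ := (Points.schemeHomeo T).surjective b'
      refine ⟨s', ?_⟩
      have hb : AlgSt.Points.map (overOfMap p) (ptAt T s') = b := by
        apply spPt_bijective.1
        rw [← ofChart_eq_map]
        rw [← hb', ofChart_eq_map, spPt_map_overOfMap]
        exact congrArg _ rfl
      have hs' : AlgSt.Points.map (AlgSt.overMap v) (ptAt T s') = ptAt U s := by
        rw [← hw, ← pts_map_congr i, pts_map_comp, hb, pts_map_comp]
      have := congrArg (toSch U) hs'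
      rw [toSch_map_overMap, toSch_ptAt, toSch_ptAt] at this
      exact this
  choose V v 𝒰 h z iz hv hvs hsep haut using hch
  have hV : ∀ s, IsAlgSpace ((yon S).obj (V s)) := fun s => IsAlgSpace.yon_obj (V s)
  refine ((isLocalOnBase_fppf_of_fpqc isLocalOnBase_fpqc_isFiniteMor) _ _ (IsAlgSpace.yon_obj U) hV
    (isFppfCover_yon_map V v (fun s => inferInstance) (fun s => inferInstance) (fun s => ⟨s, hvs s⟩)) _ F.property
    _ (fun k => pullback.snd _ _) (fun k => pullback.fst _ _)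
    (fun k => isAlgSpace_pullback F.property (hV k) (IsAlgSpace.yon_obj U) _ _)
    (fun k => IsPullback.of_hasPullback _ _)).2 fun s => ?_
  obtain ⟨i⟩ := iz s
  exact property_pullback_of_repOver WNA49.stableBC_isFiniteMor (v s) y F.property e he
    (repOver_congr i (repOver_finite (h s) (z s) h𝒳.isStack.1 (hsep s) hΔ hqf (haut s)))

end Groth.Agent.Inertia49
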