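import Groth.Agent.AlgSpDM.Finite
import Groth.Agent.AlgStLib.SepDiag
import Groth.Agent.AlgStLib.OverSpace
import Groth.Agent.AlgStLib.SpProps

/-!
# Finite inertia from proper and quasi-finite diagonals
-/

set_option autoImplicit false
set_option backward.isDefEq.respectTransparency false
set_option backward.isDefEq.respectTransparency.types false

universe u

open CategoryTheory CategoryTheory.Functor CategoryTheory.Limits AlgebraicGeometry Opposite AlgSp
open Groth.Agent.FibBase Groth.Agent.AlgSpLib Groth.Agent.AlgStLib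

namespace Groth.Agent.Inertia49

variable {S : Scheme.{u}} {𝒳 𝒴 : AlgSt.Cat S} {M : Sp S}

/-- A proper locally quasi-finite representable functor is finite. -/
theorem isFinite_of_proper_lqf {f : 𝒳 ⥤ᵇ 𝒴} (hp : AlgSt.RepByAlgSpWith IsProperMor f)
    (hq : AlgSt.RepByAlgSpWith (LocP (@LocallyQuasiFinite ⊓ @LocallyOfFiniteType)) f) :
    AlgSt.RepByAlgSpWith IsFiniteMor f := fun U y => by
  obtain ⟨F, e, he, h₁⟩ := hp U y
  have h₂ := (RepOver.property_of_stableBC stableBC_locP (hq U y) e he).2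
  exact ⟨F, e, he, AlgSpDM.isFiniteMor_of_proper_lqf (X := F) (Y := ⟨(yon S).obj U, IsAlgSpace.yon_obj U⟩)
    (ObjectProperty.homMk (AlgSt.spMapOfOver (BasedFunctor.comp e (FibCat.fpFst y f)))) h₁ h₂⟩

/-- The relative inertia over a sheaf as the inertia over the base. -/
def inertiaOfSp (π : 𝒳 ⥤ᵇ AlgSt.ofSp M) : FibCat.inertia π ⥤ᵇ FibCat.inertia (FibCat.toSelf 𝒳) where
  toFunctor :=
    { obj := fun z => ⟨z.pt, z.aut, by
        show 𝒳.p.map z.aut.hom = 𝟙 (𝒳.p.obj z.pt)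
        have h := Functor.congr_hom π.w z.aut.hom
        have hz : (π.map z.aut.hom).hom = 𝟙 (π.obj z.pt).base := congrArg Stk.EltObj.Hom.hom z.map_aut
        have h' : (π.map z.aut.hom).hom = eqToHom (π.w_obj z.pt) ≫ 𝒳.p.map z.aut.hom ≫ eqToHom (π.w_obj z.pt).symm := h
        rw [hz] at h'
        have := congrArg (fun g => eqToHom (π.w_obj z.pt).symm ≫ g ≫ eqToHom (π.w_obj z.pt)) h'
        simp only [Category.assoc, eqToHom_trans, eqToHom_refl, Category.comp_id, eqToHom_trans_assoc,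
          Category.id_comp] at this
        refine this.symm.trans ?_
        simp⟩
      map := fun φ => ⟨φ.hom, φ.comm⟩ }
  w := rfl

theorem map_eq_id_of_lies (π : 𝒳 ⥤ᵇ AlgSt.ofSp M) {x : 𝒳.obj} (a : x ⟶ x) (ha : 𝒳.p.map a = 𝟙 _) :
    π.map a = 𝟙 _ := by
  refine Stk.EltObj.hom_ext ?_
  have h : (π.map a).hom = eqToHom (π.w_obj x) ≫ 𝒳.p.map a ≫ eqToHom (π.w_obj x).symm := Functor.congr_hom π.w a
  rw [h, ha]
  simp

theorem inertiaOfSp_isEquivOver (π : 𝒳 ⥤ᵇ AlgSt.ofSp M) : FibCat.IsEquivOver (inertiaOfSp π) := by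
  refine isEquivOver_of_exists_iso _ ⟨fun {z z'} g => ⟨⟨g.hom, g.comm⟩, rfl⟩⟩
    ⟨fun {z z'} g g' e => FibCat.InertiaObj.hom_ext (congrArg (fun t => t.hom) e :)⟩ fun z => ?_
  let w : FibCat.InertiaObj π := ⟨z.pt, z.aut, map_eq_id_of_lies π _ z.map_aut⟩
  refine ⟨w, Iso.refl _, ?_⟩
  exact IsHomLift.id rfl

/-- The inertia of a stack with quasi-finite diagonal and separated over a sheaf is finite. -/
theorem inertia_finite (π : 𝒳 ⥤ᵇ AlgSt.ofSp M) (hsep : AlgSt.IsSeparatedMor π) (hqf : AlgSt.IsQuasiDMOver 𝒳) :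
    AlgSt.RepByAlgSpWith IsFiniteMor (FibCat.inertiaToBase (FibCat.toSelf 𝒳)) := by
  refine isFinite_of_proper_lqf ?_ (repByAlgSpWith_inertiaToBase _ hqf)
  exact (repByAlgSpWith_iff_of_square (f := FibCat.inertiaToBase (FibCat.toSelf 𝒳))
    (f' := FibCat.inertiaToBase π) (a := inertiaOfSp π) (b := BasedFunctor.id _)
    (inertiaOfSp_isEquivOver π) isEquivOver_id (Iso.refl _)).2 (repByAlgSpWith_inertiaToBase _ hsep)

end Groth.Agent.Inertia49
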